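import Mathlib
import Groth.Agent.Sep12.Index
import Groth.Agent.OmegaHat14.Etale
import Groth.Agent.OmegaHat14.FrobDeg
import Groth.Agent.OmegaHat14.Frac
import Groth.Agent.Ega11.GeomComp
import Groth.Agent.H98N2.Excellent
import Groth.Agent.Cohen12.Finite
import Groth.Agent.Fit14.Props

/-!
Differentials and imperfection for fraction fields of complete local domains (rows S5988, S5989).
-/

set_option autoImplicit false
set_option linter.style.haveILetI false

noncomputable section

universe u v

open TensorProduct KaehlerDifferential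

namespace Groth.Agent.Ups14

theorem rank_comp {F : Type u} [Field F] {U V W : Type v} [AddCommGroup U] [AddCommGroup V] [AddCommGroup W]
    [Module F U] [Module F V] [Module F W] (f : U →ₗ[F] V) (g : V →ₗ[F] W) (hf : Function.Injective f)
    (hg : Sep12.HasIndex g 0) :
    Module.Finite F (LinearMap.ker (g ∘ₗ f)) ∧
      Module.rank F (W ⧸ LinearMap.range (g ∘ₗ f)) =
        Module.rank F (V ⧸ LinearMap.range f) + Module.rank F (LinearMap.ker (g ∘ₗ f)) := by
  have := hg.finite_ker
  have := hg.finite_coker
  let ι : LinearMap.ker (g ∘ₗ f) →ₗ[F] LinearMap.ker g :=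
    f.restrict (p := LinearMap.ker (g ∘ₗ f)) (q := LinearMap.ker g) (fun x hx => hx)
  have hι : Function.Injective ι := fun x y hxy => Subtype.ext (hf (congrArg Subtype.val hxy))
  have hfin : Module.Finite F (LinearMap.ker (g ∘ₗ f)) := Module.Finite.of_injective ι hι
  refine ⟨hfin, ?_⟩
  have hle : LinearMap.range f ≤ (LinearMap.range (g ∘ₗ f)).comap g := by
    rintro _ ⟨x, rfl⟩; exact ⟨x, rfl⟩
  let h : (V ⧸ LinearMap.range f) →ₗ[F] (W ⧸ LinearMap.range (g ∘ₗ f)) :=
    Submodule.mapQ _ _ g hle
  -- the kernel of `h`
  let π : LinearMap.ker g →ₗ[F] LinearMap.ker h :=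
    ((LinearMap.range f).mkQ ∘ₗ (LinearMap.ker g).subtype).codRestrict (LinearMap.ker h) fun x => by
      rw [LinearMap.mem_ker]
      show Submodule.Quotient.mk (g (x : V)) = 0
      rw [LinearMap.mem_ker.1 x.2, Submodule.Quotient.mk_zero]
  have hπ : Function.Surjective π := by
    rintro ⟨y, hy⟩
    obtain ⟨v, rfl⟩ := Submodule.mkQ_surjective _ y
    rw [LinearMap.mem_ker] at hy
    obtain ⟨u, hu⟩ := (Submodule.Quotient.mk_eq_zero _).1 hy
    refine ⟨⟨v - f u, ?_⟩, Subtype.ext ?_⟩
    · rw [LinearMap.mem_ker, map_sub, ← show g (f u) = g v from hu, sub_self]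
    · show Submodule.Quotient.mk (v - f u) = Submodule.Quotient.mk v
      rw [Submodule.Quotient.eq, sub_sub_cancel_left]
      exact neg_mem ⟨u, rfl⟩
  have hπι : LinearMap.ker π = LinearMap.range ι := by
    ext x
    constructor
    · intro hx
      have : Submodule.Quotient.mk (p := LinearMap.range f) (x : V) = 0 := congrArg Subtype.val hx
      obtain ⟨u, hu⟩ := (Submodule.Quotient.mk_eq_zero _).1 this
      exact ⟨⟨u, by rw [LinearMap.mem_ker, LinearMap.comp_apply, hu]; exact x.2⟩, Subtype.ext hu⟩
    · rintro ⟨u, rfl⟩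
      exact Subtype.ext ((Submodule.Quotient.mk_eq_zero _).2 ⟨u.1, rfl⟩)
  have e1 : Module.rank F (LinearMap.ker h) + Module.rank F (LinearMap.ker (g ∘ₗ f)) =
      Module.rank F (LinearMap.ker g) := by
    rw [LinearMap.rank_eq_of_surjective (R := F) (M := ↥(LinearMap.ker g)) (M₁ := ↥(LinearMap.ker h)) (f := π) hπ,
      hπι, ← (LinearEquiv.ofInjective ι hι).rank_eq]
  have hN : Module.rank F (LinearMap.ker g) = Module.rank F (W ⧸ LinearMap.range g) := by
    rw [← Module.finrank_eq_rank, ← Module.finrank_eq_rank]
    have := hg.index_eq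
    norm_cast
    omega
  -- the cokernel of `h`
  have e2 : Module.rank F ((W ⧸ LinearMap.range (g ∘ₗ f)) ⧸ LinearMap.range h) =
      Module.rank F (W ⧸ LinearMap.range g) := by
    have : LinearMap.range h = (LinearMap.range g).map (LinearMap.range (g ∘ₗ f)).mkQ :=
      Submodule.range_mapQ _ _ _ _
    rw [this]
    exact (Submodule.quotientQuotientEquivQuotient _ _ (LinearMap.range_comp_le_range f g)).rank_eq
  rw [← Submodule.rank_quotient_add_rank (LinearMap.range h), e2, ← hN, ← e1,
    ← LinearMap.rank_range_add_rank_ker h]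
  ac_rfl

/-- The rank of the relative differentials in a tower with injective bottom and finite top. -/
theorem rank_tower (k K L : Type u) [Field k] [Field K] [Field L] [Algebra k K] [Algebra K L] [Algebra k L]
    [IsScalarTower k K L] [FiniteDimensional K L] (hinj : Function.Injective (mapBaseChange ℤ k K)) :
    Module.Finite L (LinearMap.ker (mapBaseChange ℤ k L)) ∧
      Module.rank L (Ω[L⁄k]) = Module.rank K (Ω[K⁄k]) + Module.rank L (LinearMap.ker (mapBaseChange ℤ k L)) := by
  let f : L ⊗[k] Ω[k⁄ℤ] →ₗ[L] L ⊗[K] Ω[K⁄ℤ] :=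
    (mapBaseChange ℤ k K).baseChange L ∘ₗ
      (AlgebraTensorModule.cancelBaseChange k K L L Ω[k⁄ℤ]).symm.toLinearMap
  have hf : Function.Injective f :=
    (Module.Flat.lTensor_preserves_injective_linearMap (M := L) _ hinj).comp
      (AlgebraTensorModule.cancelBaseChange k K L L Ω[k⁄ℤ]).symm.injective
  have hg : Sep12.HasIndex (mapBaseChange ℤ K L) 0 := by
    have := Sep12.hasIndex_mapBaseChange (k := K) (K := L)
    rwa [trdeg_eq_zero, map_zero, Nat.cast_zero] at this
  have e : mapBaseChange ℤ K L ∘ₗ f = mapBaseChange ℤ k L := by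
    apply TensorProduct.AlgebraTensorModule.curry_injective
    apply LinearMap.ext_ring
    apply Derivation.liftKaehlerDifferential_unique
    ext a
    simp [f, ← IsScalarTower.algebraMap_apply]
  obtain ⟨h1, h2⟩ := rank_comp f (mapBaseChange ℤ K L) hf hg
  rw [e] at h1 h2
  refine ⟨h1, ?_⟩
  rw [← Sep12.cokerEquiv.rank_eq, h2]
  congr 1
  let c := (LinearMap.range (mapBaseChange ℤ k K)).mkQ.baseChange L
  have hc : Function.Surjective c := LinearMap.lTensor_surjective L (Submodule.mkQ_surjective _)
  have hck : LinearMap.ker c = LinearMap.range f := by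
    rw [LinearMap.range_comp_of_range_eq_top _ (LinearEquiv.range _)]
    ext x
    exact (Module.Flat.lTensor_exact L (LinearMap.exact_map_mkQ_range (mapBaseChange ℤ k K))) x
  rw [((Submodule.quotEquivOfEq _ _ hck.symm).trans (c.quotKerEquivOfSurjective hc)).rank_eq,
    Module.rank_baseChange, Cardinal.lift_id]
  exact Sep12.cokerEquiv.rank_eq

section PowerSeries

variable (k : Type u) [Field k] (n : ℕ) (K : Type u) [Field K] [Algebra (MvPowerSeries (Fin n) k) K]
  [IsFractionRing (MvPowerSeries (Fin n) k) K] [Algebra k K] [IsScalarTower k (MvPowerSeries (Fin n) k) K]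

include n in
theorem injective_frac : Function.Injective (mapBaseChange ℤ k K) := by
  rw [← Sep12.isGeometricallyReduced_iff_injective]
  refine Ega11.GeomComp.isGeometricallyReduced_of_finite fun k' _ _ hk' => ?_
  haveI := (OmegaHat14.isGeometricallyRegular_of_isLocalization (nonZeroDivisors (MvPowerSeries (Fin n) k))
    K (OmegaHat14.isGeometricallyRegular_powerSeries k n)) k' hk'
  exact H98N2.isReduced_of_isRegularRing _

theorem natCast_le_rank : (n : Cardinal.{u}) ≤ Module.rank K (Ω[K⁄k]) := by
  classical
  let S := MvPowerSeries (Fin n) k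
  haveI : Algebra.FormallyEtale S K := Algebra.FormallyEtale.of_isLocalization (nonZeroDivisors S)
  let e := KaehlerDifferential.tensorKaehlerEquivOfFormallyEtale k S K
  let φ : Fin n → (Ω[K⁄k] →ₗ[K] K) := fun i =>
    LinearMap.liftBaseChange K ((Algebra.linearMap S K).comp (MvPowerSeries.pderiv k i).liftKaehlerDifferential)
      ∘ₗ e.symm.toLinearMap
  have hφ : ∀ i j, φ i (D k K (algebraMap S K (MvPowerSeries.X j))) = if i = j then 1 else 0 := by
    intro i j
    change LinearMap.liftBaseChange K _ (e.symm _) = _
    rw [KaehlerDifferential.tensorKaehlerEquivOfFormallyEtale_symm_D_algebraMap,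
      LinearMap.liftBaseChange_tmul, one_smul, LinearMap.comp_apply, Derivation.liftKaehlerDifferential_comp_D,
      Algebra.linearMap_apply]
    by_cases h : i = j
    · subst h; simp
    · simp [MvPowerSeries.pderiv_X, Pi.single_eq_of_ne, h, Ne.symm h]
  have hli : LinearIndependent K fun j => D k K (algebraMap S K (MvPowerSeries.X j)) := by
    refine linearIndependent_iff'.2 fun s g hg i hi => ?_
    have := congrArg (φ i) hg
    simpa [map_sum, map_smul, hφ, hi] using this
  simpa using hli.cardinal_lift_le_rank

variable (p : ℕ) [Fact p.Prime] [CharP k p]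

theorem span_D_X (hk : (frobenius k p).Finite) :
    Submodule.span (MvPowerSeries (Fin n) k)
      (Set.range fun i => D k (MvPowerSeries (Fin n) k) (MvPowerSeries.X i)) = ⊤ := by
  classical
  let S := MvPowerSeries (Fin n) k
  haveI : CharP S p := charP_of_injective_algebraMap (FaithfulSMul.algebraMap_injective k S) p
  let V := Submodule.span S (Set.range fun i => D k S (MvPowerSeries.X i))
  letI : Algebra (OmegaHat14.FCopy k) k := RingHom.toAlgebra (frobenius k p : OmegaHat14.FCopy k →+* k)
  haveI : Module.Finite (OmegaHat14.FCopy k) k := hk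
  obtain ⟨m, b₀, hb₀⟩ := Module.Finite.exists_fin (R := OmegaHat14.FCopy k) (M := k)
  let b : ULift.{u} (Fin m) → k := fun j => b₀ j.down
  have hb : ∀ c : k, ∃ a : ULift.{u} (Fin m) → k, c = ∑ j, a j ^ p * b j := fun c => by
    obtain ⟨a, ha⟩ := (Submodule.mem_span_range_iff_exists_fun _).1 (hb₀ ▸ Submodule.mem_top : c ∈ _)
    refine ⟨fun j => a j.down, ?_⟩
    rw [← ha, ← Equiv.ulift.symm.sum_comp]
    rfl
  have hpoly : ∀ q : MvPolynomial (Fin n) k, D k S (q : S) ∈ V := by
    intro q
    induction q using MvPolynomial.induction_on with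
    | C a =>
      rw [MvPolynomial.coe_C, show (MvPowerSeries.C a : S) = algebraMap k S a from rfl, Derivation.map_algebraMap]
      exact zero_mem _
    | add q r hq hr => rw [MvPolynomial.coe_add, map_add]; exact add_mem hq hr
    | mul_X q i hq =>
      rw [MvPolynomial.coe_mul, MvPolynomial.coe_X, Derivation.leibniz]
      exact add_mem (V.smul_mem _ (Submodule.subset_span ⟨i, rfl⟩)) (V.smul_mem _ hq)
  rw [eq_top_iff, ← KaehlerDifferential.span_range_derivation, Submodule.span_le]
  rintro _ ⟨s, rfl⟩
  obtain ⟨g, hg, hs⟩ := OmegaHat14.exists_decomp p s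
  rw [hs, map_sum]
  refine sum_mem fun e _ => ?_
  obtain ⟨h, hh⟩ := OmegaHat14.exists_frob_decomp p b hb (g e) (hg e)
  have hge : D k S (g e) = 0 := by
    rw [hh, map_sum]
    refine Finset.sum_eq_zero fun j _ => ?_
    rw [show (MvPowerSeries.C (b j) : S) = algebraMap k S (b j) from rfl, Derivation.leibniz,
      Derivation.map_algebraMap, smul_zero, add_zero, Derivation.leibniz_pow,
      ← Nat.cast_smul_eq_nsmul S, CharP.cast_eq_zero S p, zero_smul, smul_zero]
  rw [Derivation.leibniz, hge, smul_zero, zero_add]
  refine V.smul_mem _ ?_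
  rw [← MvPolynomial.coe_monomial]
  exact hpoly _

theorem finite_kaehler (hk : (frobenius k p).Finite) :
    Module.Finite (MvPowerSeries (Fin n) k) (Ω[MvPowerSeries (Fin n) k⁄k]) :=
  Module.finite_def.2 (span_D_X k n p hk ▸ Submodule.fg_span (Set.finite_range _))

theorem rank_le (hk : (frobenius k p).Finite) : Module.rank K (Ω[K⁄k]) ≤ (n : Cardinal.{u}) := by
  let S := MvPowerSeries (Fin n) k
  have hsurj : Function.Surjective (mapBaseChange k S K) := by
    haveI : Algebra.FormallyUnramified S K := Algebra.FormallyUnramified.of_isLocalization (nonZeroDivisors S)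
    intro x
    exact (exact_mapBaseChange_map k S K x).1 (Subsingleton.elim _ _)
  have h1 : Submodule.span K (Set.range fun i => D k K (algebraMap S K (MvPowerSeries.X i))) = ⊤ := by
    have h2 := Fit14.span_range_one_tmul (R' := K) _ (span_D_X k n p hk)
    have := congrArg (Submodule.map (mapBaseChange k S K)) h2
    rw [Submodule.map_span, ← Set.range_comp, Submodule.map_top, LinearMap.range_eq_top.2 hsurj] at this
    rw [← this]
    congr 2
    funext i
    exact ((mapBaseChange_tmul k S K 1 _).trans (by rw [one_smul, map_D])).symm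
  rw [← rank_top, ← h1]
  refine (rank_span_le _).trans ?_
  simpa using (Cardinal.mk_range_le_lift (f := fun i => D k K (algebraMap S K (MvPowerSeries.X i))))

end PowerSeries

section Complete

open IsLocalRing

theorem exists_data {k C : Type u} (L : Type u) [Field k] [CommRing C] [IsDomain C] [IsNoetherianRing C]
    [IsLocalRing C] [Algebra k C] [IsAdicComplete (maximalIdeal C) C] [Module.Finite k (ResidueField C)]
    {n : ℕ} (hn : ringKrullDim C = n) [Field L] [Algebra C L] [IsFractionRing C L] [Algebra k L]
    [IsScalarTower k C L] :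
    ∃ (_ : Algebra (MvPowerSeries (Fin n) k) C) (_ : IsScalarTower k (MvPowerSeries (Fin n) k) C)
      (_ : Algebra (FractionRing (MvPowerSeries (Fin n) k)) L)
      (_ : IsScalarTower k (FractionRing (MvPowerSeries (Fin n) k)) L),
      Module.Finite (MvPowerSeries (Fin n) k) C ∧
        FiniteDimensional (FractionRing (MvPowerSeries (Fin n) k)) L := by
  obtain ⟨n', w, hn', hw, -, hfin⟩ := Cohen12.exists_finite_powerSeries (k₀ := k) (A := C)
  obtain rfl : n' = n := by
    rw [hn] at hn'
    exact_mod_cast hn'.symm
  let S := MvPowerSeries (Fin n') k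
  let K := FractionRing S
  letI : Algebra S C := w.toRingHom.toAlgebra
  haveI : IsScalarTower k S C := IsScalarTower.of_algebraMap_eq fun x => (w.commutes x).symm
  haveI hfinC : Module.Finite S C := hfin
  letI : Algebra S L := ((algebraMap C L).comp w.toRingHom).toAlgebra
  haveI : IsScalarTower S C L := IsScalarTower.of_algebraMap_eq fun _ => rfl
  haveI : IsDomain S := NoZeroDivisors.to_isDomain _
  haveI : IsScalarTower k S L := IsScalarTower.of_algebraMap_eq fun x => by
    rw [IsScalarTower.algebraMap_apply k C L]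
    exact congrArg (algebraMap C L) (w.commutes x).symm
  haveI : FaithfulSMul S C := (faithfulSMul_iff_algebraMap_injective S C).2 hw
  haveI : FaithfulSMul S L := (faithfulSMul_iff_algebraMap_injective S L).2
    ((IsFractionRing.injective C L).comp hw)
  haveI : FaithfulSMul S (FractionRing C) := (faithfulSMul_iff_algebraMap_injective S _).2 <| by
    rw [IsScalarTower.algebraMap_eq S C (FractionRing C)]
    exact (IsFractionRing.injective C _).comp hw
  letI : Algebra K L := FractionRing.liftAlgebra S L
  haveI : IsScalarTower S K L := FractionRing.isScalarTower_liftAlgebra S L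
  haveI : IsScalarTower k K L := IsScalarTower.of_algebraMap_eq fun x => by
    rw [IsScalarTower.algebraMap_apply k S L, IsScalarTower.algebraMap_apply S K L,
      ← IsScalarTower.algebraMap_apply k S K]
  letI : Algebra K (FractionRing C) := FractionRing.liftAlgebra S _
  haveI : IsScalarTower S K (FractionRing C) := FractionRing.isScalarTower_liftAlgebra S _
  haveI := OmegaHat14.finite_fractionRing S C
  exact ⟨_, ‹_›, _, ‹_›, hfinC, Module.Finite.equiv
    (LinearEquiv.extendScalarsOfIsLocalization (nonZeroDivisors S) K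
      ((FractionRing.algEquiv C L).restrictScalars S).toLinearEquiv)⟩

end Complete

end Groth.Agent.Ups14
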