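import Mathlib
import Groth.Prelude.Def_Found
import Groth.Agent.FBase64.TensorField
import Groth.Agent.FBase64.PurelyInsepReduce
import Groth.Agent.EGA4H10.DedekindExc

/-!
Making an extension separable by a finite purely inseparable extension of the base (row S5992).
-/

set_option autoImplicit false
set_option linter.style.haveILetI false

noncomputable section

universe u

open TensorProduct

namespace Groth.Agent.Ups14

section Basic

variable {k : Type u} [Field k] (E : Type u) [Field E] [Algebra k E] [IsPurelyInseparable k E]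

/-- Every element of `E ⊗ A` has a power in `A`. -/
theorem exists_pow_eq_one_tmul {A : Type u} [CommRing A] [Algebra k A] (x : E ⊗[k] A) :
    ∃ n, 0 < n ∧ ∃ a : A, x ^ n = 1 ⊗ₜ a := by
  obtain ⟨n, hn, a, ha⟩ :=
    IsPurelyInseparable.exists_pow_mem_range_tensorProduct (Algebra.TensorProduct.comm k E A x)
  refine ⟨n, hn, a, (Algebra.TensorProduct.comm k E A).injective ?_⟩
  rw [map_pow, ← ha, Algebra.TensorProduct.comm_tmul, Algebra.TensorProduct.algebraMap_apply]
  rfl

theorem one_tmul_eq_zero {A : Type u} [CommRing A] [Algebra k A] {a : A} :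
    (1 : E) ⊗ₜ[k] a = 0 ↔ a = 0 := by
  refine ⟨fun h => ?_, fun h => by rw [h, TensorProduct.tmul_zero]⟩
  exact Algebra.TensorProduct.includeRight_injective (R := k) (A := E) (B := A) (algebraMap k E).injective
    (show Algebra.TensorProduct.includeRight (R := k) (A := E) a = Algebra.TensorProduct.includeRight 0 by
      rw [map_zero]; exact h)

theorem isPrime_nilradical (A : Type u) [CommRing A] [IsDomain A] [Algebra k A] :
    (nilradical (E ⊗[k] A)).IsPrime := by
  refine ⟨fun htop => ?_, fun {x y} hxy => ?_⟩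
  · obtain ⟨n, hn⟩ := mem_nilradical.1 ((Ideal.eq_top_iff_one _).1 htop)
    rw [one_pow, Algebra.TensorProduct.one_def] at hn
    exact one_ne_zero ((one_tmul_eq_zero E).1 hn)
  · obtain ⟨n, hn, a, ha⟩ := exists_pow_eq_one_tmul E x
    obtain ⟨m, hm, b, hb⟩ := exists_pow_eq_one_tmul E y
    obtain ⟨l, hl⟩ := mem_nilradical.1 hxy
    have h0 : (1 : E) ⊗ₜ[k] ((a ^ m * b ^ n) ^ l) = 0 := by
      have : ((x * y) ^ l) ^ (n * m) = 0 := by rw [hl, zero_pow (by positivity)]
      rw [← this]
      have h1 : (x * y) ^ (n * m) = (1 : E) ⊗ₜ[k] (a ^ m * b ^ n) := by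
        rw [mul_pow, pow_mul, ha, mul_comm n m, pow_mul, hb]
        simp [Algebra.TensorProduct.tmul_pow, Algebra.TensorProduct.tmul_mul_tmul]
      rw [← pow_mul, mul_comm l, pow_mul, h1, Algebra.TensorProduct.tmul_pow, one_pow]
    rcases mul_eq_zero.1 (eq_zero_of_pow_eq_zero ((one_tmul_eq_zero E).1 h0)) with h | h
    · left
      refine mem_nilradical.2 ⟨n, ?_⟩
      rw [ha, eq_zero_of_pow_eq_zero h, TensorProduct.tmul_zero]
    · right
      refine mem_nilradical.2 ⟨m, ?_⟩
      rw [hb, eq_zero_of_pow_eq_zero h, TensorProduct.tmul_zero]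

theorem isUnit_or_isNilpotent {L : Type u} [Field L] [Algebra k L] (x : E ⊗[k] L) :
    IsUnit x ∨ IsNilpotent x := by
  obtain ⟨n, hn, a, ha⟩ := exists_pow_eq_one_tmul E x
  by_cases h : a = 0
  · exact Or.inr ⟨n, by rw [ha, h, TensorProduct.tmul_zero]⟩
  · left
    refine (isUnit_pow_iff hn.ne').1 ?_
    rw [ha]
    exact (isUnit_iff_ne_zero.2 h).map (Algebra.TensorProduct.includeRight (R := k) (A := E) (B := L))

theorem isField_quotient (L : Type u) [Field L] [Algebra k L] :
    IsField ((E ⊗[k] L) ⧸ nilradical (E ⊗[k] L)) := by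
  haveI := isPrime_nilradical (k := k) E L
  refine ⟨⟨0, 1, zero_ne_one⟩, mul_comm, fun {a} ha => ?_⟩
  obtain ⟨x, rfl⟩ := Ideal.Quotient.mk_surjective a
  rcases isUnit_or_isNilpotent (k := k) E x with h | h
  · obtain ⟨b, hb⟩ := (h.map (Ideal.Quotient.mk (nilradical (E ⊗[k] L)))).exists_right_inv
    exact ⟨b, hb⟩
  · exact absurd (Ideal.Quotient.eq_zero_iff_mem.2 h) ha

end Basic

section Stage

variable (k : Type u) [Field k] (L : Type u) [Field L] [Algebra k L]
  (P : Type u) [Field P] [Algebra k P]

theorem isNoetherianRing_of_finite (K : Type u) [Field K] [Algebra k K] [Algebra K L] [IsScalarTower k K L]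
    [FiniteDimensional K L] [IsPurelyInseparable k P] [Algebra.IsGeometricallyReduced k K] :
    IsNoetherianRing (P ⊗[k] L) := by
  classical
  haveI : IsReduced (P ⊗[k] K) := FBase64.isReduced_tensor_of_geomReduced k K P
  have hF : IsField (P ⊗[k] K) := by
    refine ⟨⟨0, 1, fun h => ?_⟩, mul_comm, fun {a} ha => ?_⟩
    · exact one_ne_zero ((one_tmul_eq_zero (k := k) P (A := K)).1 h.symm)
    · rcases isUnit_or_isNilpotent P a with h | h
      · exact h.exists_right_inv
      · exact absurd h.eq_zero ha
  letI := hF.toField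
  let f : P ⊗[k] K →ₐ[k] P ⊗[k] L := Algebra.TensorProduct.map (AlgHom.id k P) (IsScalarTower.toAlgHom k K L)
  letI : Algebra (P ⊗[k] K) (P ⊗[k] L) := f.toRingHom.toAlgebra
  let b := Module.finBasis K L
  haveI : Module.Finite (P ⊗[k] K) (P ⊗[k] L) := by
    refine Module.Finite.of_surjective (Fintype.linearCombination (P ⊗[k] K) fun i => (1 : P) ⊗ₜ[k] b i) ?_
    rw [← LinearMap.range_eq_top, Fintype.range_linearCombination, eq_top_iff]
    rintro z -
    induction z using TensorProduct.induction_on with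
    | zero => exact zero_mem _
    | add x y hx hy => exact add_mem hx hy
    | tmul x y =>
      rw [← b.sum_repr y, TensorProduct.tmul_sum]
      refine sum_mem fun i _ => ?_
      have : x ⊗ₜ[k] (b.repr y i • b i) = (x ⊗ₜ[k] b.repr y i) • ((1 : P) ⊗ₜ[k] b i) := by
        show _ = f (x ⊗ₜ[k] b.repr y i) * ((1 : P) ⊗ₜ[k] b i)
        simp [f, Algebra.smul_def]
      rw [this]
      exact Submodule.smul_mem _ _ (Submodule.subset_span ⟨i, rfl⟩)
  exact IsNoetherianRing.of_finite (P ⊗[k] K) _

/-- The map to the perfect stage. -/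
def toTop (E : Type u) [Field E] [Algebra k E] [Algebra E P] [IsScalarTower k E P] : E ⊗[k] L →ₐ[k] P ⊗[k] L :=
  Algebra.TensorProduct.map (IsScalarTower.toAlgHom k E P) (AlgHom.id k L)

theorem exists_finset_range (z : P ⊗[k] L) :
    ∃ S : Finset P, ∀ (E : Type u) [Field E] [Algebra k E] [Algebra E P] [IsScalarTower k E P],
      (S : Set P) ⊆ Set.range (algebraMap E P) → z ∈ (toTop k L P E).range := by
  classical
  induction z using TensorProduct.induction_on with
  | zero => exact ⟨∅, fun E _ _ _ _ _ => zero_mem _⟩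
  | tmul x y =>
    refine ⟨{x}, fun E _ _ _ _ hE => ?_⟩
    obtain ⟨w, hw⟩ := hE (Finset.mem_coe.2 (Finset.mem_singleton_self x))
    exact ⟨w ⊗ₜ y, by simp [toTop, hw]⟩
  | add a b ha hb =>
    obtain ⟨S, hS⟩ := ha
    obtain ⟨T, hT⟩ := hb
    exact ⟨S ∪ T, fun E _ _ _ _ hE => add_mem (hS E fun x hx => hE (by simp [Finset.mem_coe.1 hx]))
      (hT E fun x hx => hE (by simp [Finset.mem_coe.1 hx]))⟩

theorem isGeometricallyReduced_stage [PerfectField P] (E : Type u) [Field E] [Algebra k E] [Algebra E P]
    [IsScalarTower k E P] (G : Finset (P ⊗[k] L)) (hG : Ideal.span (G : Set (P ⊗[k] L)) = nilradical (P ⊗[k] L))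
    (hS : ∀ g ∈ G, g ∈ (toTop k L P E).range) :
    Algebra.IsGeometricallyReduced E ((E ⊗[k] L) ⧸ nilradical (E ⊗[k] L)) := by
  let N := nilradical (E ⊗[k] L)
  let e := Algebra.TensorProduct.cancelBaseChange k E E P L
  let π : P ⊗[E] (E ⊗[k] L) →ₐ[E] P ⊗[E] ((E ⊗[k] L) ⧸ N) :=
    Algebra.TensorProduct.map (AlgHom.id E P) (Ideal.Quotient.mkₐ E N)
  have hπ : Function.Surjective π :=
    Algebra.TensorProduct.map_surjective _ _ Function.surjective_id (Ideal.Quotient.mkₐ_surjective E N)
  have hker : RingHom.ker π = N.map (Algebra.TensorProduct.includeRight : E ⊗[k] L →ₐ[E] P ⊗[E] (E ⊗[k] L)) :=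
    (Algebra.TensorProduct.lTensor_ker _ (Ideal.Quotient.mkₐ_surjective E N)).trans (by
      congr 1
      exact Ideal.Quotient.mkₐ_ker E N)
  have hcomp : ∀ y, e (1 ⊗ₜ y) = toTop k L P E y := by
    intro y
    induction y using TensorProduct.induction_on with
    | zero => simp
    | add a b ha hb => rw [TensorProduct.tmul_add, map_add, ha, hb, map_add]
    | tmul a b => simp [e, toTop, Algebra.smul_def]
  have htop : Function.Injective (toTop k L P E) :=
    Module.Flat.rTensor_preserves_injective_linearMap (M := L) (IsScalarTower.toAlgHom k E P).toLinearMap (algebraMap E P).injective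
  have hG' : ∀ g ∈ G, e.symm g ∈ RingHom.ker π := by
    intro g hg
    obtain ⟨y, hy⟩ := hS g hg
    have hyN : y ∈ N := by
      have hg' : IsNilpotent g := mem_nilradical.1 (hG ▸ Ideal.subset_span hg)
      refine mem_nilradical.2 ((IsNilpotent.map_iff htop).1 ?_)
      exact hy.symm ▸ hg'
    have h1 : e.symm g = 1 ⊗ₜ y := e.injective (by rw [e.apply_symm_apply, hcomp]; exact hy.symm)
    rw [hker, h1]
    exact Ideal.mem_map_of_mem _ hyN
  haveI : IsReduced (P ⊗[E] ((E ⊗[k] L) ⧸ N)) := by
    refine ⟨fun z ⟨m, hm⟩ => ?_⟩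
    obtain ⟨x, rfl⟩ := hπ z
    have h1 : x ^ m ∈ RingHom.ker π := by rw [RingHom.mem_ker, map_pow, hm]
    have h2 : x ^ m ∈ nilradical (P ⊗[E] (E ⊗[k] L)) := by
      rw [hker] at h1
      refine (Ideal.map_le_iff_le_comap.2 fun y hy => ?_) h1
      exact (mem_nilradical.1 hy).map _
    have h3 : e x ∈ nilradical (P ⊗[k] L) := by
      have : IsNilpotent x := IsNilpotent.of_pow (m := m) h2
      exact this.map e
    have h4 : x ∈ RingHom.ker π := by
      rw [← hG] at h3
      have := Ideal.mem_map_of_mem e.symm h3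
      rw [Ideal.map_span, e.symm_apply_apply] at this
      exact Ideal.span_le.2 (Set.image_subset_iff.2 hG') this
    exact h4
  exact FBase64.PIReduce.isGeometricallyReduced_of_perfect (Ω := P)

/-- A finite purely inseparable extension after which the reduced extension is separable. -/
theorem exists_geometricallyReduced [PerfectField P] [IsPurelyInseparable k P] [IsNoetherianRing (P ⊗[k] L)] :
    ∃ (E : Type u) (_ : Field E) (_ : Algebra k E), Module.Finite k E ∧ IsPurelyInseparable k E ∧
      Algebra.IsGeometricallyReduced E ((E ⊗[k] L) ⧸ nilradical (E ⊗[k] L)) := by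
  classical
  obtain ⟨G, hG⟩ := IsNoetherian.noetherian (nilradical (P ⊗[k] L))
  choose S hS using exists_finset_range k L P
  let T : Finset P := G.biUnion S
  let E : IntermediateField k P := IntermediateField.adjoin k (T : Set P)
  haveI : FiniteDimensional k E :=
    IntermediateField.finiteDimensional_adjoin fun x _ => Algebra.IsIntegral.isIntegral x
  haveI : IsPurelyInseparable k E := IsPurelyInseparable.tower_bot k E P
  refine ⟨E, inferInstance, inferInstance, ‹_›, ‹_›, isGeometricallyReduced_stage k L P E G hG fun g hg => ?_⟩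
  exact hS g E fun x hx =>
    ⟨⟨x, IntermediateField.subset_adjoin k _ (Finset.mem_biUnion.2 ⟨g, hg, Finset.mem_coe.1 hx⟩)⟩, rfl⟩

end Stage

theorem isGeometricallyRegular_of_isGeometricallyReduced (E X : Type u) [Field E] [CommRing X] (hX : IsField X)
    [Algebra E X] [Algebra.IsGeometricallyReduced E X] : CAlg.IsGeometricallyRegular E X := by
  intro k' _ _ hk'
  haveI : IsArtinianRing X := by
    letI := hX.toField
    infer_instance
  haveI : IsReduced X := by
    letI := hX.toField
    infer_instance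
  haveI : IsReduced (k' ⊗[E] X) := FBase64.isReduced_tensor_of_geomReduced E X k'
  haveI : IsReduced (X ⊗[E] k') :=
    isReduced_of_injective (Algebra.TensorProduct.comm E X k').toRingHom
      (Algebra.TensorProduct.comm E X k').injective
  haveI : Module.Finite X (X ⊗[E] k') := inferInstance
  haveI : IsArtinianRing (X ⊗[E] k') := IsArtinianRing.of_finite X _
  haveI := EGA4H10.isRegularRing_of_isReduced_artinian (X ⊗[E] k')
  exact IsRegularRing.of_ringEquiv (Algebra.TensorProduct.comm E X k').toRingEquiv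

end Groth.Agent.Ups14
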