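import Mathlib
import Groth.Agent.Ups14.Reduce
import Groth.Agent.Ups14.Power
import Groth.Agent.OmegaHat14.Unram
import Groth.Agent.OmegaHat14.FreeReg
import Groth.Agent.EGA4H10.CompleteJ2
import Groth.Agent.EGA4Alg4.IntegralDim
import Groth.Agent.FrobAlg54.PowerSeriesFin

/-!
Generically unramified normalisation after a purely inseparable extension (row S5992).
-/

set_option autoImplicit false
set_option linter.style.haveILetI false

noncomputable section

universe u

open TensorProduct IsLocalRing

namespace Groth.Agent.Ups14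

theorem frobenius_finite (p : ℕ) (k : Type u) [Field k] [ExpChar k p] (hk : (frobenius k p).Finite)
    (E : Type u) [Field E] [Algebra k E] [Module.Finite k E] :
    ∃ (_ : ExpChar E p), (frobenius E p).Finite := by
  haveI : ExpChar E p := expChar_of_injective_algebraMap (algebraMap k E).injective p
  refine ⟨‹_›, ?_⟩
  cases ‹ExpChar k p› with
  | zero => exact RingHom.Finite.of_surjective _ fun x => ⟨x, by simp [frobenius_def]⟩
  | prime hp =>
    haveI : Fact p.Prime := ⟨hp⟩
    haveI : CharP E p := charP_of_injective_algebraMap (algebraMap k E).injective p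
    exact FrobAlg54.finite_frobenius_of_finiteType p hk (A := E)

theorem exists_separable_stage (k A : Type u) [Field k] [CommRing A] [IsDomain A] [IsNoetherianRing A]
    [IsLocalRing A] [Algebra k A] [IsAdicComplete (maximalIdeal A) A] [Module.Finite k (ResidueField A)]
    (n : ℕ) (hn : ringKrullDim A = n) :
    ∃ (E : Type u) (_ : Field E) (_ : Algebra k E), Module.Finite k E ∧ IsPurelyInseparable k E ∧
      Algebra.IsGeometricallyReduced E
        ((E ⊗[k] FractionRing A) ⧸ nilradical (E ⊗[k] FractionRing A)) := by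
  let L := FractionRing A
  obtain ⟨_, _, _, _, -, hfin⟩ := exists_data (k := k) (C := A) L hn
  let K := FractionRing (MvPowerSeries (Fin n) k)
  haveI : Algebra.IsGeometricallyReduced k K :=
    Sep12.isGeometricallyReduced_iff_injective.2 (injective_frac k n K)
  let P := perfectClosure k (AlgebraicClosure k)
  haveI : IsNoetherianRing (P ⊗[k] L) := isNoetherianRing_of_finite k L P K
  exact exists_geometricallyReduced k L P

theorem isGeometricallyRegular_localization (E A' X : Type u) [Field E] [CommRing A'] [CommRing X] (hX : IsField X)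
    [Algebra E A'] [Algebra E X] [Algebra A' X] [IsScalarTower E A' X] (P : Ideal A') [P.IsPrime]
    [IsLocalization P.primeCompl X] [Algebra.IsGeometricallyReduced E X] :
    CAlg.IsGeometricallyRegular E (Localization.AtPrime P) := by
  intro k' _ _ hk'
  haveI := isGeometricallyRegular_of_isGeometricallyReduced E X hX k' hk'
  let e : X ≃ₐ[E] Localization.AtPrime P :=
    (IsLocalization.algEquiv P.primeCompl X (Localization.AtPrime P)).restrictScalars E
  exact IsRegularRing.of_ringEquiv (Algebra.TensorProduct.congr (AlgEquiv.refl (R := E) (A₁ := k')) e).toRingEquiv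

theorem main (p : ℕ) (k A : Type u) [Field k] [ExpChar k p] (hk : (frobenius k p).Finite) [CommRing A]
    [IsDomain A] [IsNoetherianRing A] [IsLocalRing A] [Algebra k A] [IsAdicComplete (maximalIdeal A) A]
    [Module.Finite k (ResidueField A)] (hA : ¬ IsField A) (n : ℕ) (hn : ringKrullDim A = n)
    (E : Type u) [Field E] [Algebra k E] [Module.Finite k E] [IsPurelyInseparable k E]
    [Algebra.IsGeometricallyReduced E ((E ⊗[k] FractionRing A) ⧸ nilradical (E ⊗[k] FractionRing A))] :
    ∃ (_ : IsDomain ((E ⊗[k] A) ⧸ nilradical (E ⊗[k] A)))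
        (_ : IsLocalRing ((E ⊗[k] A) ⧸ nilradical (E ⊗[k] A)))
        (_ : Algebra (MvPowerSeries (Fin n) E) ((E ⊗[k] A) ⧸ nilradical (E ⊗[k] A)))
        (_ : IsScalarTower E (MvPowerSeries (Fin n) E) ((E ⊗[k] A) ⧸ nilradical (E ⊗[k] A))),
        IsLocalHom (algebraMap (MvPowerSeries (Fin n) E) ((E ⊗[k] A) ⧸ nilradical (E ⊗[k] A))) ∧
        Function.Injective (algebraMap (MvPowerSeries (Fin n) E) ((E ⊗[k] A) ⧸ nilradical (E ⊗[k] A))) ∧
        Module.Finite (MvPowerSeries (Fin n) E) ((E ⊗[k] A) ⧸ nilradical (E ⊗[k] A)) ∧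
        Algebra.IsUnramifiedAt (MvPowerSeries (Fin n) E) (⊥ : Ideal ((E ⊗[k] A) ⧸ nilradical (E ⊗[k] A))) := by
  classical
  let L := FractionRing A
  let R := E ⊗[k] A
  let A' := R ⧸ nilradical R
  haveI hprime : (nilradical R).IsPrime := isPrime_nilradical (k := k) E A
  haveI hdom : IsDomain A' := Ideal.Quotient.isDomain _
  let ι : A →ₐ[k] R := Algebra.TensorProduct.includeRight
  letI : Algebra A R := ι.toRingHom.toAlgebra
  haveI : Module.Finite A R := by
    let b := Module.finBasis k E
    refine Module.Finite.of_surjective (Fintype.linearCombination A fun i => b i ⊗ₜ[k] (1 : A)) ?_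
    rw [← LinearMap.range_eq_top, Fintype.range_linearCombination, eq_top_iff]
    rintro z -
    induction z using TensorProduct.induction_on with
    | zero => exact zero_mem _
    | add x y hx hy => exact add_mem hx hy
    | tmul x y =>
      rw [← b.sum_repr x, TensorProduct.sum_tmul]
      refine sum_mem fun i _ => ?_
      rw [TensorProduct.smul_tmul]
      have : b i ⊗ₜ[k] (b.repr x i • y) = (b.repr x i • y) • (b i ⊗ₜ[k] (1 : A)) := by
        show _ = ι (b.repr x i • y) * (b i ⊗ₜ[k] (1 : A))
        rw [show ι (b.repr x i • y) = (1 : E) ⊗ₜ[k] (b.repr x i • y) from rfl, Algebra.TensorProduct.tmul_mul_tmul,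
          one_mul, mul_one]
      rw [this]
      exact Submodule.smul_mem _ _ (Submodule.subset_span ⟨i, rfl⟩)
  haveI : Module.Finite A A' := Module.Finite.of_surjective (Ideal.Quotient.mkₐ A (nilradical R)).toLinearMap
    Ideal.Quotient.mk_surjective
  haveI : IsNoetherianRing A' := IsNoetherianRing.of_finite A A'
  have hinjA : Function.Injective (algebraMap A A') := by
    rw [injective_iff_map_eq_zero]
    intro a ha
    obtain ⟨m, hm⟩ := mem_nilradical.1 (Ideal.Quotient.eq_zero_iff_mem.1 ha)
    rw [show algebraMap A R a = (1 : E) ⊗ₜ[k] a from rfl, Algebra.TensorProduct.tmul_pow, one_pow,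
      one_tmul_eq_zero] at hm
    exact eq_zero_of_pow_eq_zero hm
  haveI : Algebra.IsIntegral A A' := Algebra.IsIntegral.of_finite A A'
  -- locality
  haveI hloc : IsLocalRing A' := by
    refine .of_unique_max_ideal ?_
    obtain ⟨Q, hQ⟩ := Ideal.exists_maximal A'
    refine ⟨Q, hQ, fun Q' hQ' => ?_⟩
    have key : ∀ (Q : Ideal A') [Q.IsMaximal] (x : A') (m : ℕ) (a : A), 0 < m → x ^ m = algebraMap A A' a →
        (x ∈ Q ↔ a ∈ maximalIdeal A) := by
      intro Q _ x m a hm ha
      have hc : Q.comap (algebraMap A A') = maximalIdeal A :=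
        IsLocalRing.eq_maximalIdeal (Ideal.isMaximal_comap_of_isIntegral_of_isMaximal Q)
      rw [← hc, Ideal.mem_comap, ← ha]
      exact ⟨fun h => Ideal.pow_mem_of_mem Q h m hm, fun h => Ideal.IsPrime.mem_of_pow_mem inferInstance m h⟩
    ext x
    obtain ⟨y, rfl⟩ := Ideal.Quotient.mk_surjective x
    obtain ⟨m, hm, a, ha⟩ := exists_pow_eq_one_tmul E y
    have hpow : Ideal.Quotient.mk (nilradical R) y ^ m = algebraMap A A' a := by rw [← map_pow, ha]; rfl
    rw [key Q _ m a hm hpow, key Q' _ m a hm hpow]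
  haveI : IsAdicComplete (maximalIdeal A') A' := EGA4H10.isAdicComplete_maximalIdeal_of_finite A A'
  have hdim : ringKrullDim A' = n := (EGA4Alg4.ringKrullDim_eq_of_integral A A' hinjA).trans hn
  haveI : IsScalarTower k A R := IsScalarTower.of_algebraMap_eq fun x => by
    show _ = ι (algebraMap k A x)
    rw [AlgHom.commutes]
  haveI : IsScalarTower k A A' := IsScalarTower.of_algebraMap_eq fun x => by
    show Ideal.Quotient.mk _ (algebraMap k R x) = Ideal.Quotient.mk _ (algebraMap A R (algebraMap k A x))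
    rw [← IsScalarTower.algebraMap_apply k A R]
  haveI : IsLocalHom (algebraMap A A') :=
    ((local_hom_TFAE (algebraMap A A')).out 0 4).2
      (IsLocalRing.eq_maximalIdeal (Ideal.isMaximal_comap_of_isIntegral_of_isMaximal _))
  haveI : Module.Finite k (ResidueField A') := Module.Finite.trans (ResidueField A) (ResidueField A')
  haveI : Module.Finite E (ResidueField A') := Module.Finite.of_restrictScalars_finite k E (ResidueField A')
  -- the generic point is geometrically regular
  let L' := (E ⊗[k] L) ⧸ nilradical (E ⊗[k] L)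
  have hL' : IsField L' := isField_quotient (k := k) E L
  let f : R →ₐ[E] E ⊗[k] L := Algebra.TensorProduct.map (AlgHom.id E E) (IsScalarTower.toAlgHom k A L)
  have hf : Function.Injective f :=
    Module.Flat.lTensor_preserves_injective_linearMap (M := E) (IsScalarTower.toAlgHom k A L).toLinearMap
      (IsFractionRing.injective A L)
  let F : A' →ₐ[E] L' := Ideal.Quotient.liftₐ _ ((Ideal.Quotient.mkₐ E _).comp f) fun x hx =>
    Ideal.Quotient.eq_zero_iff_mem.2 (mem_nilradical.2 ((mem_nilradical.1 hx).map f))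
  have hF : Function.Injective F := by
    refine (injective_iff_map_eq_zero F).2 fun x hx => ?_
    obtain ⟨y, rfl⟩ := Ideal.Quotient.mk_surjective x
    have h1 : f y ∈ nilradical (E ⊗[k] L) := Ideal.Quotient.eq_zero_iff_mem.1 hx
    exact Ideal.Quotient.eq_zero_iff_mem.2 (mem_nilradical.2 ((IsNilpotent.map_iff hf).1 h1))
  letI : Algebra A' L' := F.toRingHom.toAlgebra' fun _ _ => hL'.mul_comm _ _
  haveI : IsScalarTower E A' L' := IsScalarTower.of_algebraMap_eq fun x => (F.commutes x).symm
  have hbot : (⊥ : Ideal A').primeCompl = nonZeroDivisors A' := by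
    ext x
    rw [mem_nonZeroDivisors_iff_ne_zero]
    exact (Ideal.mem_bot.not : x ∉ (⊥ : Ideal A') ↔ x ≠ 0)
  have hfrac : ∀ z : E ⊗[k] L, ∃ (y : R) (s : A), s ≠ 0 ∧ f (algebraMap A R s) * z = f y := by
    intro z
    induction z using TensorProduct.induction_on with
    | zero => exact ⟨0, 1, one_ne_zero, by simp⟩
    | add a b ha hb =>
      obtain ⟨y, s, hs, h⟩ := ha
      obtain ⟨y', s', hs', h'⟩ := hb
      refine ⟨algebraMap A R s' * y + algebraMap A R s * y', s * s', mul_ne_zero hs hs', ?_⟩
      rw [map_mul, map_mul, map_add, map_mul, map_mul, ← h, ← h']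
      ring
    | tmul x y =>
      obtain ⟨a, s, hs, rfl⟩ := IsFractionRing.div_surjective (A := A) y
      refine ⟨x ⊗ₜ a, s, nonZeroDivisors.ne_zero hs, ?_⟩
      show f ((1 : E) ⊗ₜ[k] s) * _ = _
      have hs' : algebraMap A L s ≠ 0 := IsFractionRing.to_map_ne_zero_of_mem_nonZeroDivisors hs
      show ((1 : E) ⊗ₜ[k] algebraMap A L s) * (x ⊗ₜ[k] (algebraMap A L a / algebraMap A L s)) =
        x ⊗ₜ[k] algebraMap A L a
      rw [Algebra.TensorProduct.tmul_mul_tmul, one_mul, mul_div_cancel₀ _ hs']
  haveI : IsLocalization (⊥ : Ideal A').primeCompl L' := by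
    rw [hbot]
    refine
      { map_units := fun x => by
          obtain ⟨b, hb⟩ := hL'.mul_inv_cancel (a := algebraMap A' L' x) fun h =>
            nonZeroDivisors.ne_zero x.2 (hF (h.trans (map_zero F).symm))
          exact IsUnit.of_mul_eq_one _ hb
        surj := fun z => ?_
        exists_of_eq := fun {x y} h => ⟨1, by rw [hF h]⟩ }
    obtain ⟨z, rfl⟩ := Ideal.Quotient.mk_surjective z
    obtain ⟨y, s, hs, h⟩ := hfrac z
    refine ⟨(Ideal.Quotient.mk _ y, ⟨algebraMap A A' s, mem_nonZeroDivisors_iff_ne_zero.2 fun h0 =>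
      hs (hinjA (h0.trans (map_zero _).symm))⟩), ?_⟩
    show Ideal.Quotient.mk _ z * Ideal.Quotient.mk _ (f (algebraMap A R s)) = Ideal.Quotient.mk _ (f y)
    rw [← map_mul, mul_comm, h]
  have hgr : CAlg.IsGeometricallyRegular E (Localization.AtPrime (⊥ : Ideal A')) :=
    isGeometricallyRegular_localization E A' L' hL' (⊥ : Ideal A')
  obtain ⟨_, hkE⟩ := frobenius_finite p k hk E
  have hmin : (⊥ : Ideal A') ∈ minimalPrimes A' := by
    rw [IsDomain.minimalPrimes_eq_singleton_bot]; rfl
  have hquot : ringKrullDim (A' ⧸ (⊥ : Ideal A')) = n :=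
    (ringKrullDim_eq_of_ringEquiv (RingEquiv.quotientBot A')).trans hdim
  obtain ⟨hfree, hrank⟩ := OmegaHat14.free_of_geometricallyRegular p E A' hkE ⊥ hgr ⊥ hmin le_rfl n hquot
  haveI := hfree
  haveI := (OmegaHat14.span_residueField_dhat E A' (⊥ : Ideal A')).2
  let b := Module.finBasisOfFinrankEq (Localization.AtPrime (⊥ : Ideal A'))
    (LocalizedModule (⊥ : Ideal A').primeCompl
      (AdicCompletion (maximalIdeal A') (KaehlerDifferential E A'))) hrank
  have hne : (⊥ : Ideal A') ≠ maximalIdeal A' := fun h => by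
    have hfA' : IsField A' := isField_iff_maximalIdeal_eq.2 h.symm
    exact hA (isField_of_isIntegral_of_isField (S := A') hinjA hfA')
  obtain ⟨i1, i2, hloc', hfin', hunr⟩ := OmegaHat14.exists_unramified_of_span E A' ⊥ hne
    ⟨⊥, hmin, le_rfl, hquot.trans hdim.symm⟩ n b b.span_eq
  refine ⟨hdom, hloc, i1, i2, hloc', ?_, hfin', hunr⟩
  -- injectivity by dimension
  rw [RingHom.injective_iff_ker_eq_bot]
  by_contra hker
  obtain ⟨s, hs, hs0⟩ := Submodule.exists_mem_ne_zero_of_ne_bot hker
  have h1 : ringKrullDim A' ≤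
      ringKrullDim (MvPowerSeries (Fin n) E ⧸ RingHom.ker (algebraMap (MvPowerSeries (Fin n) E) A')) := by
    letI : Algebra (MvPowerSeries (Fin n) E ⧸ RingHom.ker (algebraMap (MvPowerSeries (Fin n) E) A')) A' :=
      (RingHom.kerLift (algebraMap (MvPowerSeries (Fin n) E) A')).toAlgebra
    haveI : Module.Finite (MvPowerSeries (Fin n) E ⧸ RingHom.ker (algebraMap (MvPowerSeries (Fin n) E) A')) A' :=
      RingHom.Finite.of_comp_finite (f := Ideal.Quotient.mk _)
        (g := RingHom.kerLift (algebraMap (MvPowerSeries (Fin n) E) A'))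
        (show (algebraMap (MvPowerSeries (Fin n) E) A').Finite from RingHom.finite_algebraMap.2 hfin')
    haveI : Algebra.IsIntegral _ A' :=
      Algebra.IsIntegral.of_finite (MvPowerSeries (Fin n) E ⧸ RingHom.ker (algebraMap (MvPowerSeries (Fin n) E) A')) A'
    exact EGA4Alg4.ringKrullDim_le_of_integral _ A'
  haveI : IsDomain (MvPowerSeries (Fin n) E) := NoZeroDivisors.to_isDomain _
  have h2 := ringKrullDim_quotient_succ_le_of_nonZeroDivisor (R := MvPowerSeries (Fin n) E)
    (r := s) (mem_nonZeroDivisors_iff_ne_zero.2 hs0)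
  have h3 : ringKrullDim (MvPowerSeries (Fin n) E ⧸ RingHom.ker (algebraMap (MvPowerSeries (Fin n) E) A')) ≤
      ringKrullDim (MvPowerSeries (Fin n) E ⧸ Ideal.span {s}) :=
    ringKrullDim_le_of_surjective (Ideal.Quotient.factor ((Ideal.span_singleton_le_iff_mem _).2 hs))
      (Ideal.Quotient.factor_surjective _)
  rw [CAlg6.ringKrullDim_mvPowerSeries] at h2
  rw [hdim] at h1
  have h4 : (n : WithBot ℕ∞) + 1 ≤ n := (add_le_add (h1.trans h3) le_rfl).trans h2
  have h5 : n + 1 ≤ n := by exact_mod_cast h4
  omega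

end Groth.Agent.Ups14
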